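import Groth.Agent.L18.Quiet.Basic
import Groth.Agent.L27.TopInv.UnivHomeo
import Groth.Agent.S7403
import Groth.Prelude.Def_Frob

/-!
# Composition of quasi-etale morphisms

Extractions of roots are universal homeomorphisms in characteristic `p`, so etale morphisms over them
descend, which lets one commute an etale morphism past an extraction of roots.
-/

set_option autoImplicit false
set_option backward.isDefEq.respectTransparency false
universe u

open CategoryTheory CategoryTheory.Limits AlgebraicGeometry TopologicalSpace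

noncomputable section

namespace Groth.L18.Quiet

open Polynomial

variable {p : ℕ}

theorem isUnivHomeo_rootRing (hp : p.Prime) {A : Type u} [CommRing A] (h0 : (p : A) = 0) (a : A) :
    FlatMor.IsUnivHomeo (Spec.map (CommRingCat.ofHom (algebraMap A (_root_.Quiet.RootRing p A a)))) := by
  have h := Groth.Agent.S7403.result A p hp a 0 (by rw [h0, zero_pow hp.ne_zero, zero_mul])
  have e : Ideal.span ({X ^ p - C a, C (p : A) * X - C (0 : A)} : Set A[X]) = Ideal.span {X ^ p - C a} := by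
    rw [h0]
    simp [Ideal.span_insert]
  let E : (A[X] ⧸ Ideal.span ({X ^ p - C a, C (p : A) * X - C (0 : A)} : Set A[X])) ≃ₐ[A]
      _root_.Quiet.RootRing p A a := Ideal.quotientEquivAlgOfEq A e
  have hE : CommRingCat.ofHom (algebraMap A (_root_.Quiet.RootRing p A a)) =
      CommRingCat.ofHom (algebraMap A (A[X] ⧸ Ideal.span ({X ^ p - C a, C (p : A) * X - C (0 : A)} : Set A[X]))) ≫
        E.toRingEquiv.toCommRingCatIso.hom := by
    ext r
    exact (E.commutes r).symm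
  rw [hE, Spec.map_comp]
  haveI := Groth.L27.TopInv.isUnivHomeo_respectsIso.{u}
  exact (MorphismProperty.cancel_left_of_respectsIso _ (Spec.map E.toRingEquiv.toCommRingCatIso.hom) _).2 h

theorem isUnivHomeo_comp {X Y Z : Scheme.{u}} {f : X ⟶ Y} {g : Y ⟶ Z} (hf : FlatMor.IsUnivHomeo f)
    (hg : FlatMor.IsUnivHomeo g) : FlatMor.IsUnivHomeo (f ≫ g) := by
  obtain ⟨h₁, h₂, h₃⟩ := (Groth.L20.isUnivHomeo_iff f).1 hf
  obtain ⟨h₁', h₂', h₃'⟩ := (Groth.L20.isUnivHomeo_iff g).1 hg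
  exact (Groth.L20.isUnivHomeo_iff _).2 ⟨inferInstance,
    MorphismProperty.comp_mem (@UniversallyInjective) f g h₂ h₂', inferInstance⟩

theorem isUnivHomeo_of_tower (hp : p.Prime) : ∀ {n : ℕ} {A B : CommRingCat.{u}} (f : A ⟶ B) (_ : (p : A) = 0),
    (letI := f.hom.toAlgebra; _root_.Quiet.IsRootTower p n A B) → FlatMor.IsUnivHomeo (Spec.map f)
  | 0, A, B, f, _, h => by
    letI := f.hom.toAlgebra
    obtain ⟨e⟩ := h
    haveI : IsIso f := (ConcreteCategory.isIso_iff_bijective f).2 (by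
      have : ⇑f = e.symm := funext fun r => (e.symm.commutes r).symm
      rw [this]; exact e.symm.bijective)
    exact (Groth.L20.isUnivHomeo_iff _).2 ⟨inferInstance, inferInstance, inferInstance⟩
  | n + 1, A, B, f, h0, h => by
    letI := f.hom.toAlgebra
    obtain ⟨a, i, t, hn⟩ := h
    letI := i
    haveI := t
    let c : CommRingCat.of (_root_.Quiet.RootRing p A a) ⟶ B :=
      CommRingCat.ofHom (algebraMap (_root_.Quiet.RootRing p A a) B)
    let o : A ⟶ CommRingCat.of (_root_.Quiet.RootRing p A a) :=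
      CommRingCat.ofHom (algebraMap A (_root_.Quiet.RootRing p A a))
    have hc : o ≫ c = f := by
      ext r
      exact (IsScalarTower.algebraMap_apply A (_root_.Quiet.RootRing p A a) B r).symm
    rw [← hc, Spec.map_comp]
    have hi : c.hom.toAlgebra = i := Algebra.algebra_ext _ _ fun _ => rfl
    refine isUnivHomeo_comp (isUnivHomeo_of_tower hp (n := n) c ?_ (hi ▸ hn)) (isUnivHomeo_rootRing hp h0 a)
    show (p : _root_.Quiet.RootRing p A a) = 0
    rw [← map_natCast (algebraMap A (_root_.Quiet.RootRing p A a)), h0, map_zero]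

variable {X Y Z : Scheme.{u}}

theorem natCast_eq_zero_of_hom [FrobSch.IsCharP X p] (f : Y ⟶ X) (U : Y.Opens) : (p : Γ(Y, U)) = 0 := by
  rw [← map_natCast (f.appLE ⊤ U le_top).hom, FrobSch.IsCharP.natCast_eq_zero, map_zero]

theorem isUnivHomeo_of_isPthRoot (hp : p.Prime) {r : Y ⟶ X} (h0 : ∀ U : X.Opens, (p : Γ(X, U)) = 0)
    (hr : _root_.Quiet.IsPthRoot p r) : FlatMor.IsUnivHomeo r := by
  choose U hxU hrU n hn using hr
  have hcov : ⨆ x, (U x).1 = ⊤ := Opens.ext (Set.eq_univ_of_forall fun x => by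
    rw [Opens.coe_iSup]; exact Set.mem_iUnion.2 ⟨x, hxU x⟩)
  have key : ∀ x, FlatMor.IsUnivHomeo (r ∣_ (U x).1) := fun x => by
    haveI := Groth.L27.TopInv.isUnivHomeo_respectsIso.{u}
    haveI : IsAffine ((U x).1 : Scheme.{u}) := (U x).2
    haveI : IsAffine ((r ⁻¹ᵁ (U x).1 : Y.Opens) : Scheme.{u}) := hrU x
    have h := isUnivHomeo_of_tower hp (r.app (U x).1) (h0 _) (hn x)
    have e : (hrU x).isoSpec.hom ≫ Spec.map (r.appLE (U x).1 (r ⁻¹ᵁ (U x).1) le_rfl) =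
        r.resLE (U x).1 (r ⁻¹ᵁ (U x).1) le_rfl ≫ (U x).2.isoSpec.hom :=
      Groth.L07.SyntScheme.isoSpec_hom_comp r (U x).2 (hrU x) le_rfl
    rw [Scheme.Hom.resLE_eq_morphismRestrict, Scheme.Hom.appLE_eq_app] at e
    refine (MorphismProperty.cancel_right_of_respectsIso (P := FlatMor.IsUnivHomeo) _ (U x).2.isoSpec.hom).1 ?_
    rw [← e]
    exact (MorphismProperty.cancel_left_of_respectsIso (P := FlatMor.IsUnivHomeo) (hrU x).isoSpec.hom _).2 h
  refine (Groth.L20.isUnivHomeo_iff r).2 ⟨?_, ?_, ?_⟩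
  · exact (IsZariskiLocalAtTarget.iff_of_iSup_eq_top (P := @UniversallyClosed) _ hcov).2
      fun x => ((Groth.L20.isUnivHomeo_iff _).1 (key x)).1
  · exact (IsZariskiLocalAtTarget.iff_of_iSup_eq_top (P := @UniversallyInjective) _ hcov).2
      fun x => ((Groth.L20.isUnivHomeo_iff _).1 (key x)).2.1
  · exact (IsZariskiLocalAtTarget.iff_of_iSup_eq_top (P := @Surjective) _ hcov).2
      fun x => ((Groth.L20.isUnivHomeo_iff _).1 (key x)).2.2

theorem isRootTower_trans : ∀ {m n : ℕ} {A B C : CommRingCat.{u}} (f : A ⟶ B) (g : B ⟶ C),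
    (letI := f.hom.toAlgebra; _root_.Quiet.IsRootTower p m A B) →
    (letI := g.hom.toAlgebra; _root_.Quiet.IsRootTower p n B C) →
    (letI := (f ≫ g).hom.toAlgebra; _root_.Quiet.IsRootTower p (n + m) A C)
  | 0, n, A, B, C, f, g, h, h' => by
    letI := f.hom.toAlgebra
    obtain ⟨e⟩ := h
    haveI : IsIso f := (ConcreteCategory.isIso_iff_bijective f).2 (by
      have : ⇑f = e.symm := funext fun r => (e.symm.commutes r).symm
      rw [this]; exact e.symm.bijective)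
    have H : IsPushout g (inv f) (𝟙 C) (f ≫ g) := IsPushout.of_vert_isIso ⟨by simp⟩
    exact isRootTower_pushout H h'
  | m + 1, n, A, B, C, f, g, h, h' => by
    letI := f.hom.toAlgebra
    letI := (f ≫ g).hom.toAlgebra
    obtain ⟨a, i, t, hn⟩ := h
    letI := i
    haveI := t
    let c : CommRingCat.of (_root_.Quiet.RootRing p A a) ⟶ B :=
      CommRingCat.ofHom (algebraMap (_root_.Quiet.RootRing p A a) B)
    have hi : c.hom.toAlgebra = i := Algebra.algebra_ext _ _ fun _ => rfl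
    letI := (c ≫ g).hom.toAlgebra
    haveI : IsScalarTower A (_root_.Quiet.RootRing p A a) C := IsScalarTower.of_algebraMap_eq fun r => by
      show g (f r) = g (c (algebraMap A (_root_.Quiet.RootRing p A a) r))
      exact congrArg g (IsScalarTower.algebraMap_apply A (_root_.Quiet.RootRing p A a) B r)
    exact ⟨a, (c ≫ g).hom.toAlgebra, inferInstance, isRootTower_trans c g (hi ▸ hn) h'⟩

theorem isPthRoot_comp {r : Z ⟶ Y} {k : Y ⟶ X} (hr : _root_.Quiet.IsPthRoot p r)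
    (hk : _root_.Quiet.IsPthRoot p k) (hhom : IsHomeomorph k) : _root_.Quiet.IsPthRoot p (r ≫ k) := by
  intro x
  obtain ⟨U, hxU, hkU, n, hn⟩ := hk x
  obtain ⟨w, hw⟩ := hhom.bijective.2 x
  obtain ⟨U₂, hwU, hrU, m, hm⟩ := hr w
  have hop : IsOpen (k '' (U₂.1 : Set Y)) := hhom.isOpenMap _ U₂.1.2
  obtain ⟨_, ⟨W, hW, rfl⟩, hxW, hWU⟩ := X.isBasis_affineOpens.exists_subset_of_mem_open
    (show x ∈ (U.1 : Set X) ∩ k '' (U₂.1 : Set Y) from ⟨hxU, w, hwU, hw⟩) (U.1.2.inter hop)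
  have hkW : k ⁻¹ᵁ W ≤ U₂.1 := fun z hz => by
    obtain ⟨z', hz', e⟩ := (hWU hz).2
    exact hhom.bijective.1 e ▸ hz'
  obtain ⟨hA, hT⟩ := tower_of_isPullback (IsPullback.of_horiz_isIso ⟨by simp⟩ : IsPullback (𝟙 Y) k k (𝟙 X))
    hkU hn hW (fun z hz => (hWU hz).1)
  obtain ⟨hA', hT'⟩ := tower_of_isPullback (IsPullback.of_horiz_isIso ⟨by simp⟩ : IsPullback (𝟙 Z) r r (𝟙 Y))
    hrU hm hA hkW
  refine ⟨⟨W, hW⟩, hxW, hA', m + n, ?_⟩
  exact isRootTower_trans (k.app W) (r.app (k ⁻¹ᵁ W)) hT hT'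

theorem isPthRoot_of_iso_comp {r : Z ⟶ X} (e : Y ≅ Z) (hr : _root_.Quiet.IsPthRoot p r) :
    _root_.Quiet.IsPthRoot p (e.hom ≫ r) :=
  isPthRoot_of_isPullback (IsPullback.of_horiz_isIso ⟨by simp⟩ : IsPullback e.hom (e.hom ≫ r) r (𝟙 X)) hr

theorem isQuiet_comp [FrobSch.IsCharP X p] (hp : p.Prime) {f : Y ⟶ X} {g : Z ⟶ Y}
    (hf : _root_.Quiet.IsQuiet p f) (hg : _root_.Quiet.IsQuiet p g) : _root_.Quiet.IsQuiet p (g ≫ f) := by
  intro z
  obtain ⟨W, Y₂, r₂, e₂, hz, hr₂, he₂, hw₂⟩ := hg z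
  obtain ⟨V, Y₁, r₁, e₁, hy, hr₁, he₁, hw₁⟩ := hf (g z)
  haveI := he₁
  haveI := he₂
  obtain ⟨_, ⟨U₀, hU₀, rfl⟩, hyU, -⟩ := Y₁.isBasis_affineOpens.exists_subset_of_mem_open
    (Set.mem_univ (r₁ ⟨g z, hy⟩)) isOpen_univ
  let U : Y₁.Opens := U₀
  have hU : IsAffineOpen U := hU₀
  have huh : FlatMor.IsUnivHomeo r₁ :=
    isUnivHomeo_of_isPthRoot hp (natCast_eq_zero_of_hom e₁) hr₁
  haveI := Groth.L20.isAffineHom_of_isUnivHomeo huh
  have hUp : IsAffineOpen (r₁ ⁻¹ᵁ U) := hU.preimage r₁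
  haveI : IsAffine (U : Scheme.{u}) := hU
  haveI : IsAffine ((r₁ ⁻¹ᵁ U : (V : Scheme.{u}).Opens) : Scheme.{u}) := hUp
  have hrU : _root_.Quiet.IsPthRoot p (r₁ ∣_ U) :=
    isPthRoot_of_isPullback (isPullback_morphismRestrict r₁ U).flip hr₁
  haveI hst : (FlatMor.IsUnivHomeo.{u}).IsStableUnderBaseChange :=
    inferInstanceAs (MorphismProperty.universally _).IsStableUnderBaseChange
  have huhU : FlatMor.IsUnivHomeo (r₁ ∣_ U) :=
    MorphismProperty.of_isPullback (isPullback_morphismRestrict r₁ U).flip huh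
  -- the part of `Y₂` over the chart
  let j : ((r₁ ⁻¹ᵁ U : (V : Scheme.{u}).Opens) : Scheme.{u}) ⟶ Y := (r₁ ⁻¹ᵁ U).ι ≫ V.ι
  have hej : e₂ (r₂ ⟨z, hz⟩) ∈ j.opensRange := by
    refine ⟨⟨⟨g z, hy⟩, hyU⟩, ?_⟩
    show g z = e₂ (r₂ ⟨z, hz⟩)
    rw [← Scheme.Hom.comp_apply, hw₂]
    rfl
  obtain ⟨_, ⟨O₀, hO, rfl⟩, hzO, hOj⟩ := Y₂.isBasis_affineOpens.exists_subset_of_mem_open
    (show r₂ ⟨z, hz⟩ ∈ e₂ ⁻¹ᵁ j.opensRange from hej) (e₂ ⁻¹ᵁ j.opensRange).2
  let O : Y₂.Opens := O₀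
  haveI : IsAffine (O : Scheme.{u}) := hO
  have hrange : Set.range (O.ι ≫ e₂) ⊆ Set.range j := by
    rintro _ ⟨o, rfl⟩
    exact hOj o.2
  let t := IsOpenImmersion.lift j (O.ι ≫ e₂) hrange
  have ht : t ≫ j = O.ι ≫ e₂ := IsOpenImmersion.lift_fac _ _ _
  haveI : Etale t := by
    haveI : Etale (t ≫ j) := ht ▸ inferInstance
    exact MorphismProperty.of_postcomp (W := @Etale) (W' := @Etale) t j inferInstance this
  -- descend along the universal homeomorphism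
  have := Groth.L27.TopInv.isUnivHomeo_respectsIso.{u}
  have hi : FlatMor.IsUnivHomeo ((r₁ ∣_ U) ≫ hU.isoSpec.hom) :=
    (MorphismProperty.cancel_right_of_respectsIso _ _ _).2 huhU
  obtain ⟨U', v, hv, k, hk⟩ := Groth.L27.TopInv.exists_lift_affine_univHomeo _ hi t
  haveI := hv
  have hkr : _root_.Quiet.IsPthRoot p k :=
    isPthRoot_of_isPullback hk.flip (isPthRoot_of_isPullback
      (IsPullback.of_horiz_isIso ⟨by simp⟩ :
        IsPullback (𝟙 _) ((r₁ ∣_ U) ≫ hU.isoSpec.hom) (r₁ ∣_ U) hU.isoSpec.inv) hrU)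
  have hkh : IsHomeomorph k := Groth.L20.isHomeomorph_of_isUnivHomeo (MorphismProperty.of_isPullback hk.flip hi)
  have hr₂O : _root_.Quiet.IsPthRoot p (r₂ ∣_ O) :=
    isPthRoot_of_isPullback (isPullback_morphismRestrict r₂ O).flip hr₂
  let iso := (W.ι.isoImage (r₂ ⁻¹ᵁ O)).symm
  refine ⟨W.ι ''ᵁ (r₂ ⁻¹ᵁ O), U', iso.hom ≫ (r₂ ∣_ O) ≫ k, v ≫ hU.isoSpec.inv ≫ U.ι ≫ e₁,
    ⟨⟨z, hz⟩, hzO, rfl⟩, isPthRoot_of_iso_comp iso (isPthRoot_comp hr₂O hkr hkh), inferInstance, ?_⟩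
  have h1 : k ≫ v ≫ hU.isoSpec.inv ≫ U.ι ≫ e₁ = O.ι ≫ e₂ ≫ f := by
    rw [← Category.assoc, hk.w]
    simp only [Category.assoc, Iso.hom_inv_id_assoc]
    rw [morphismRestrict_ι_assoc, hw₁, ← reassoc_of% ht]
    simp [j]
  simp only [Category.assoc]
  rw [h1, morphismRestrict_ι_assoc, reassoc_of% hw₂]
  simp [iso]

end Groth.L18.Quiet
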