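import Groth.Prelude.Def_W4c2gaugesfzipsQuiet
import Groth.Agent.S2846
import Groth.Agent.S18934
import Groth.Agent.L07.SyntScheme
import Groth.Agent.L07.SyntMor
import Groth.Agent.L07.SyntBase

/-!
# Extractions of `p`-th roots: base change and syntomicity
-/

set_option autoImplicit false
set_option backward.isDefEq.respectTransparency false
universe u

open CategoryTheory CategoryTheory.Limits AlgebraicGeometry TopologicalSpace

noncomputable section

namespace Groth.L18.Quiet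

open Polynomial

/-! ### Towers -/

theorem isRootTower_congr {p : ℕ} : ∀ {n : ℕ} {A B B' : Type u} [CommRing A] [CommRing B] [CommRing B']
    [Algebra A B] [Algebra A B'] (_ : B ≃ₐ[A] B'), _root_.Quiet.IsRootTower p n A B →
    _root_.Quiet.IsRootTower p n A B'
  | 0, A, B, B', _, _, _, _, _, e, h => ⟨e.symm.trans h.some⟩
  | n + 1, A, B, B', _, _, _, _, _, e, h => by
    obtain ⟨a, i, t, hn⟩ := h
    letI := i
    haveI := t
    letI i' : Algebra (_root_.Quiet.RootRing p A a) B' :=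
      (e.toRingEquiv.toRingHom.comp (algebraMap (_root_.Quiet.RootRing p A a) B)).toAlgebra
    haveI : IsScalarTower A (_root_.Quiet.RootRing p A a) B' := IsScalarTower.of_algebraMap_eq fun r => by
      show algebraMap A B' r = e (algebraMap (_root_.Quiet.RootRing p A a) B (algebraMap A (_root_.Quiet.RootRing p A a) r))
      rw [← IsScalarTower.algebraMap_apply, e.commutes]
    exact ⟨a, i', inferInstance, isRootTower_congr
      (AlgEquiv.ofRingEquiv (f := e.toRingEquiv) fun _ => rfl) hn⟩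

/-- Adjoining a root commutes with change of the base ring. -/
theorem isPushout_rootRing (p : ℕ) {A A' : CommRingCat.{u}} (g : A ⟶ A') (a : A) :
    IsPushout (CommRingCat.ofHom (AdjoinRoot.of (X ^ p - C a : A[X]))) g
      (CommRingCat.ofHom (AdjoinRoot.lift ((AdjoinRoot.of (X ^ p - C (g a) : A'[X])).comp g.hom)
        (AdjoinRoot.root (X ^ p - C (g a) : A'[X])) (by
          have h := AdjoinRoot.eval₂_root (X ^ p - C (g a) : A'[X])
          simpa using h)))
      (CommRingCat.ofHom (AdjoinRoot.of (X ^ p - C (g a) : A'[X]))) := by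
  refine ⟨⟨?_⟩, ⟨?_⟩⟩
  · ext r
    simp
  refine PushoutCocone.IsColimit.mk _ (fun s => CommRingCat.ofHom
      (AdjoinRoot.lift s.inr.hom (s.inl.hom (AdjoinRoot.root (X ^ p - C a : A[X]))) ?_)) ?_ ?_ ?_
  · have h := congrArg s.inl.hom (AdjoinRoot.eval₂_root (X ^ p - C a : A[X]))
    rw [map_zero, Polynomial.hom_eval₂] at h
    simp only [eval₂_sub, eval₂_X_pow, eval₂_C] at h ⊢
    have hc : s.inl.hom (AdjoinRoot.of (X ^ p - C a : A[X]) a) = s.inr.hom (g a) :=
      congrArg (fun φ => φ.hom a) s.condition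
    rw [RingHom.comp_apply, hc] at h
    exact h
  · intro s
    refine CommRingCat.hom_ext (AdjoinRoot.ringHom_ext (RingHom.ext fun r => ?_) ?_)
    · simp only [CommRingCat.hom_comp, CommRingCat.hom_ofHom, RingHom.comp_apply, AdjoinRoot.lift_of]
      exact (congrArg (fun φ => φ.hom r) s.condition).symm
    · simp
  · intro s
    ext r
    simp
  · intro s m hm₁ hm₂
    refine CommRingCat.hom_ext (AdjoinRoot.ringHom_ext (RingHom.ext fun r => ?_) ?_)
    · simp only [CommRingCat.hom_ofHom, RingHom.comp_apply, AdjoinRoot.lift_of]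
      exact congrArg (fun φ => φ.hom r) hm₂
    · simp only [CommRingCat.hom_ofHom, AdjoinRoot.lift_root]
      have h := congrArg (fun φ => φ.hom (AdjoinRoot.root (X ^ p - C a : A[X]))) hm₁
      simpa using h

/-- Towers are stable under cobase change. -/
theorem isRootTower_pushout {p : ℕ} : ∀ {n : ℕ} {A A' B B' : CommRingCat.{u}} {f : A ⟶ B} {g : A ⟶ A'}
    {g' : B ⟶ B'} {f' : A' ⟶ B'} (_ : IsPushout f g g' f'),
    (letI := f.hom.toAlgebra; _root_.Quiet.IsRootTower p n A B) →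
    (letI := f'.hom.toAlgebra; _root_.Quiet.IsRootTower p n A' B')
  | 0, A, A', B, B', f, g, g', f', H, h => by
    letI := f.hom.toAlgebra
    letI := f'.hom.toAlgebra
    obtain ⟨e⟩ := h
    haveI : IsIso f := (ConcreteCategory.isIso_iff_bijective f).2 (by
      have : ⇑f = e.symm := funext fun r => (e.symm.commutes r).symm
      rw [this]; exact e.symm.bijective)
    haveI := H.isIso_inr_of_isIso
    exact ⟨(AlgEquiv.ofBijective (Algebra.ofId A' B')
      ((ConcreteCategory.isIso_iff_bijective f').1 inferInstance)).symm⟩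
  | n + 1, A, A', B, B', f, g, g', f', H, h => by
    letI := f.hom.toAlgebra
    letI := f'.hom.toAlgebra
    obtain ⟨a, i, t, hn⟩ := h
    letI := i
    haveI := t
    let R : CommRingCat.{u} := CommRingCat.of (_root_.Quiet.RootRing p A a)
    let c : R ⟶ B := CommRingCat.ofHom (algebraMap (_root_.Quiet.RootRing p A a) B)
    have hc : CommRingCat.ofHom (AdjoinRoot.of (X ^ p - C a : A[X])) ≫ c = f := by
      ext r
      exact (IsScalarTower.algebraMap_apply A (_root_.Quiet.RootRing p A a) B r).symm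
    let R' : CommRingCat.{u} := CommRingCat.of (_root_.Quiet.RootRing p A' (g a))
    have hR := isPushout_rootRing p g a
    let c' : R' ⟶ B' := hR.desc (c ≫ g') f' (by rw [← Category.assoc, hc]; exact H.w)
    have hP : IsPushout c _ g' c' :=
      IsPushout.of_left (by rw [hc, hR.inr_desc]; exact H) (hR.inl_desc _ _ _).symm hR
    letI : Algebra (_root_.Quiet.RootRing p A' (g a)) B' := c'.hom.toAlgebra
    haveI : IsScalarTower A' (_root_.Quiet.RootRing p A' (g a)) B' := IsScalarTower.of_algebraMap_eq fun r =>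
      (congrArg (fun φ => φ.hom r) (hR.inr_desc (c ≫ g') f' (by rw [← Category.assoc, hc]; exact H.w))).symm
    have hi : c.hom.toAlgebra = i := Algebra.algebra_ext _ _ fun _ => rfl
    exact ⟨g a, c'.hom.toAlgebra, inferInstance, isRootTower_pushout hP (hi ▸ hn)⟩

/-- A syntomic ring map gives a complete intersection morphism of spectra. -/
theorem isCIMorphism_Spec {A B : CommRingCat.{u}} (φ : A ⟶ B)
    (h : letI := φ.hom.toAlgebra; Synt.IsSyntomic A B) : CInt.IsCIMorphism (Spec.map φ) := by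
  refine (Groth.L07.SyntScheme.isSyntomicMor_iff _).1 fun x => ?_
  refine ⟨⟨⊤, isAffineOpen_top _⟩, ⟨⊤, isAffineOpen_top _⟩, le_top, trivial, ?_⟩
  refine Groth.L07.SyntBase.isSyntomic_of_arrowIso
    (a := φ) (b := (Spec.map φ).appLE ⊤ ⊤ le_top) ?_ h
  exact Arrow.isoMk (Scheme.ΓSpecIso A).symm (Scheme.ΓSpecIso B).symm (by
    simp only [Arrow.mk_hom, Iso.symm_hom, Scheme.Hom.appLE_eq_app]
    exact (Scheme.ΓSpecIso_inv_naturality φ).symm)

theorem isCIMorphism_of_tower {p : ℕ} (hp : p.Prime) : ∀ {n : ℕ} {A B : CommRingCat.{u}} (f : A ⟶ B),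
    (letI := f.hom.toAlgebra; _root_.Quiet.IsRootTower p n A B) → CInt.IsCIMorphism (Spec.map f)
  | 0, A, B, f, h => by
    letI := f.hom.toAlgebra
    obtain ⟨e⟩ := h
    haveI : IsIso f := (ConcreteCategory.isIso_iff_bijective f).2 (by
      have : ⇑f = e.symm := funext fun r => (e.symm.commutes r).symm
      rw [this]; exact e.symm.bijective)
    haveI : Etale (Spec.map f) := inferInstance
    exact Groth.L07.SyntMor.isCIMorphism_of_smooth _
  | n + 1, A, B, f, h => by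
    letI := f.hom.toAlgebra
    obtain ⟨a, i, t, hn⟩ := h
    letI := i
    haveI := t
    let c : CommRingCat.of (_root_.Quiet.RootRing p A a) ⟶ B :=
      CommRingCat.ofHom (algebraMap (_root_.Quiet.RootRing p A a) B)
    let o : A ⟶ CommRingCat.of (_root_.Quiet.RootRing p A a) :=
      CommRingCat.ofHom (algebraMap A (_root_.Quiet.RootRing p A a))
    have hc : o ≫ c = f := by
      ext r
      exact (IsScalarTower.algebraMap_apply A (_root_.Quiet.RootRing p A a) B r).symm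
    rw [← hc, Spec.map_comp]
    haveI : Fact p.Prime := ⟨hp⟩
    have hi : c.hom.toAlgebra = i := Algebra.algebra_ext _ _ fun _ => rfl
    refine Groth.Agent.S2846.result _ _ (isCIMorphism_of_tower hp (n := n) c ?_) (isCIMorphism_Spec o ?_)
    · exact hi ▸ hn
    · have ho : o.hom.toAlgebra = AdjoinRoot.instAlgebra (S := A) (X ^ p - C a : A[X]) :=
        Algebra.algebra_ext _ _ fun _ => rfl
      exact ho ▸ (Groth.Agent.S18934.result p A a).1

/-! ### Morphisms -/

variable {p : ℕ} {X Y : Scheme.{u}}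

theorem isSyntomicMor_of_isPthRoot (hp : p.Prime) {f : Y ⟶ X} (hf : _root_.Quiet.IsPthRoot p f) :
    Synt.IsSyntomicMor f := by
  intro y
  obtain ⟨U, hxU, hfU, n, h⟩ := hf (f y)
  have hCI := isCIMorphism_of_tower hp (f.app U.1) h
  refine ⟨⟨f ⁻¹ᵁ U.1, hfU⟩, U, le_rfl, hxU, ?_⟩
  refine Groth.L07.SyntBase.isSyntomic_of_arrowIso
    (a := (Spec.map (f.app U.1)).appLE ⊤ ⊤ le_top) (b := f.appLE U.1 (f ⁻¹ᵁ U.1) le_rfl) ?_
    (Groth.L07.SyntScheme.isSyntomic_appLE hCI (isAffineOpen_top _) (isAffineOpen_top _) le_top)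
  exact Arrow.isoMk (Scheme.ΓSpecIso _) (Scheme.ΓSpecIso _) (by
    simp only [Arrow.mk_hom, Scheme.Hom.appLE_eq_app]
    exact (Scheme.ΓSpecIso_naturality _).symm)

/-- A chart of an extraction of roots restricts to every affine open over it. -/
theorem tower_of_isPullback {X' Y' : Scheme.{u}} {f : Y ⟶ X} {g : X' ⟶ X} {f' : Y' ⟶ X'}
    {g' : Y' ⟶ Y} (H : IsPullback g' f' f g) {U : X.affineOpens} (hfU : IsAffineOpen (f ⁻¹ᵁ U.1)) {n : ℕ}
    (h : letI := (f.app U.1).hom.toAlgebra; _root_.Quiet.IsRootTower p n Γ(X, U.1) Γ(Y, f ⁻¹ᵁ U.1))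
    {W : X'.Opens} (hW : IsAffineOpen W) (hWU : W ≤ g ⁻¹ᵁ U.1) :
    IsAffineOpen (f' ⁻¹ᵁ W) ∧
      (letI := (f'.app W).hom.toAlgebra; _root_.Quiet.IsRootTower p n Γ(X', W) Γ(Y', f' ⁻¹ᵁ W)) := by
  have hUY : f' ⁻¹ᵁ W = g' ⁻¹ᵁ (f ⁻¹ᵁ U.1) ⊓ f' ⁻¹ᵁ W := by
    refine (inf_eq_right.2 ?_).symm
    intro z hz
    show f (g' z) ∈ U.1
    rw [← Scheme.Hom.comp_apply, H.w, Scheme.Hom.comp_apply]
    exact hWU hz
  have hR := Scheme.Hom.isPullback_resLE (US := U.1) (UT := W) (UX := f ⁻¹ᵁ U.1) H hWU le_rfl hUY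
  haveI : IsAffine (U.1 : Scheme.{u}) := U.2
  haveI : IsAffine (W : Scheme.{u}) := hW
  haveI : IsAffine ((f ⁻¹ᵁ U.1 : Y.Opens) : Scheme.{u}) := hfU
  haveI : IsAffineHom (g.resLE U.1 W hWU) := inferInstance
  haveI hY' : IsAffine ((f' ⁻¹ᵁ W : Y'.Opens) : Scheme.{u}) := IsAffine.of_isPullback hR
  refine ⟨hY', ?_⟩
  have hP := isPushout_appTop_of_isPullback hR
  have hP' : IsPushout (f.app U.1) (g.appLE U.1 W hWU)
      (g'.appLE (f ⁻¹ᵁ U.1) (f' ⁻¹ᵁ W) (by rw [hUY]; exact inf_le_left)) (f'.app W) := by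
    refine hP.of_iso U.1.topIso (f ⁻¹ᵁ U.1).topIso (Scheme.Opens.topIso W) (Scheme.Opens.topIso (f' ⁻¹ᵁ W)) ?_ ?_ ?_ ?_
    · rw [← Scheme.Hom.appLE_eq_app]
      exact (Arrow.w (arrowResLEAppIso f U.1 (f ⁻¹ᵁ U.1) le_rfl).hom).symm
    · exact (Arrow.w (arrowResLEAppIso g U.1 W hWU).hom).symm
    · exact (Arrow.w (arrowResLEAppIso g' (f ⁻¹ᵁ U.1) (f' ⁻¹ᵁ W) _).hom).symm
    · rw [← Scheme.Hom.appLE_eq_app]
      exact (Arrow.w (arrowResLEAppIso f' W (f' ⁻¹ᵁ W) le_rfl).hom).symm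
  exact isRootTower_pushout hP' h

theorem isPthRoot_of_isPullback {X' Y' : Scheme.{u}} {f : Y ⟶ X} {g : X' ⟶ X} {f' : Y' ⟶ X'}
    {g' : Y' ⟶ Y} (H : IsPullback g' f' f g) (hf : _root_.Quiet.IsPthRoot p f) :
    _root_.Quiet.IsPthRoot p f' := by
  intro x'
  obtain ⟨U, hxU, hfU, n, h⟩ := hf (g x')
  obtain ⟨_, ⟨W, hW, rfl⟩, hxW, hWU⟩ := X'.isBasis_affineOpens.exists_subset_of_mem_open
    (show x' ∈ g ⁻¹ᵁ U.1 from hxU) (g ⁻¹ᵁ U.1).2
  obtain ⟨hA, hT⟩ := tower_of_isPullback H hfU h hW hWU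
  exact ⟨⟨W, hW⟩, hxW, hA, n, hT⟩

theorem isQuiet_of_isPullback {X' Y' : Scheme.{u}} {f : Y ⟶ X} {g : X' ⟶ X} {f' : Y' ⟶ X'}
    {g' : Y' ⟶ Y} (H : IsPullback g' f' f g) (hf : _root_.Quiet.IsQuiet p f) :
    _root_.Quiet.IsQuiet p f' := by
  intro y'
  obtain ⟨V, Y₁, r, e, hy, hr, he, hre⟩ := hf (g' y')
  haveI := he
  let r' : ((g' ⁻¹ᵁ V : Y'.Opens) : Scheme.{u}) ⟶ pullback e g :=
    pullback.lift ((g' ∣_ V) ≫ r) ((g' ⁻¹ᵁ V).ι ≫ f') (by
      rw [Category.assoc, Category.assoc, hre, ← Category.assoc, morphismRestrict_ι, Category.assoc, H.w])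
  refine ⟨g' ⁻¹ᵁ V, pullback e g, r', pullback.snd e g, hy, ?_, inferInstance, pullback.lift_snd _ _ _⟩
  refine isPthRoot_of_isPullback (g := pullback.fst e g) (g' := g' ∣_ V) ?_ hr
  refine IsPullback.of_bot ?_ (by rw [pullback.lift_fst]) (IsPullback.of_hasPullback e g)
  rw [pullback.lift_snd, hre]
  exact (isPullback_morphismRestrict g' V).paste_vert H

theorem isSyntomicMor_of_isQuiet (hp : p.Prime) {f : Y ⟶ X} (hf : _root_.Quiet.IsQuiet p f) :
    Synt.IsSyntomicMor f := by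
  intro y
  obtain ⟨V, Y₁, r, e, hy, hr, he, hre⟩ := hf y
  haveI := he
  have hCI : CInt.IsCIMorphism (V.ι ≫ f) :=
    hre ▸ Groth.Agent.S2846.result r e ((Groth.L07.SyntScheme.isSyntomicMor_iff r).1
      (isSyntomicMor_of_isPthRoot hp hr)) (Groth.L07.SyntMor.isCIMorphism_of_smooth e)
  obtain ⟨U, W, hUW, hyU, hs⟩ := (Groth.L07.SyntScheme.isSyntomicMor_iff _).2 hCI ⟨y, hy⟩
  refine ⟨⟨V.ι ''ᵁ U.1, U.2.image_of_isOpenImmersion V.ι⟩, W, ?_, ⟨⟨y, hy⟩, hyU, rfl⟩, ?_⟩
  · rintro z ⟨w, hw, rfl⟩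
    exact hUW hw
  · refine Groth.L07.SyntBase.isSyntomic_of_arrowIso
      (a := (V.ι ≫ f).appLE W.1 U.1 hUW) (b := f.appLE W.1 (V.ι ''ᵁ U.1) _) ?_ hs
    exact Arrow.isoMk (Iso.refl _) (V.ι.appIso U.1).symm (by
      simp only [Arrow.mk_hom, Iso.refl_hom, Category.id_comp, Iso.symm_hom]
      rw [Iso.eq_comp_inv, Scheme.Hom.appIso_hom', Scheme.Hom.appLE_comp_appLE])

end Groth.L18.Quiet
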