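import Groth.Agent.L18.Quiet.Comp
import Mathlib.AlgebraicGeometry.Morphisms.ClosedImmersion

/-!
# Lifting quasi-etale morphisms along nil-immersions
-/

set_option autoImplicit false
set_option backward.isDefEq.respectTransparency false
universe u

open CategoryTheory CategoryTheory.Limits AlgebraicGeometry TopologicalSpace

noncomputable section

namespace Groth.L18.Quiet

open Polynomial

variable {p : ℕ}

theorem isRootTower_arrow {n : ℕ} {A B A' B' : CommRingCat.{u}} {f : A ⟶ B} {f' : A' ⟶ B'} (σ : A ≅ A')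
    (τ : B ≅ B') (w : f ≫ τ.hom = σ.hom ≫ f')
    (h : letI := f.hom.toAlgebra; _root_.Quiet.IsRootTower p n A B) :
    letI := f'.hom.toAlgebra; _root_.Quiet.IsRootTower p n A' B' :=
  isRootTower_pushout (IsPushout.of_vert_isIso ⟨w⟩ : IsPushout f σ.hom τ.hom f') h

/-- Towers lift along surjections. -/
theorem exists_lift_tower : ∀ {n : ℕ} {A A₀ B₀ : CommRingCat.{u}} (φ : A ⟶ A₀) (_ : Function.Surjective φ)
    (f₀ : A₀ ⟶ B₀), (letI := f₀.hom.toAlgebra; _root_.Quiet.IsRootTower p n A₀ B₀) →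
    ∃ (B : CommRingCat.{u}) (f : A ⟶ B) (ψ : B ⟶ B₀), IsPushout f φ ψ f₀ ∧
      (letI := f.hom.toAlgebra; _root_.Quiet.IsRootTower p n A B)
  | 0, A, A₀, B₀, φ, hφ, f₀, h => by
    letI := f₀.hom.toAlgebra
    obtain ⟨e⟩ := h
    haveI : IsIso f₀ := (ConcreteCategory.isIso_iff_bijective f₀).2 (by
      have : ⇑f₀ = e.symm := funext fun r => (e.symm.commutes r).symm
      rw [this]; exact e.symm.bijective)
    refine ⟨A, 𝟙 A, φ ≫ f₀, IsPushout.of_horiz_isIso ⟨by simp⟩, ?_⟩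
    letI := (𝟙 A : A ⟶ A).hom.toAlgebra
    exact ⟨(AlgEquiv.ofBijective (Algebra.ofId A A) Function.bijective_id).symm⟩
  | n + 1, A, A₀, B₀, φ, hφ, f₀, h => by
    letI := f₀.hom.toAlgebra
    obtain ⟨a₀, i, t, hn⟩ := h
    obtain ⟨a, rfl⟩ := hφ a₀
    letI := i
    haveI := t
    let c₀ : CommRingCat.of (_root_.Quiet.RootRing p A₀ (φ a)) ⟶ B₀ :=
      CommRingCat.ofHom (algebraMap (_root_.Quiet.RootRing p A₀ (φ a)) B₀)
    have hi : c₀.hom.toAlgebra = i := Algebra.algebra_ext _ _ fun _ => rfl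
    let l := AdjoinRoot.lift ((AdjoinRoot.of (X ^ p - C (φ a) : A₀[X])).comp φ.hom)
        (AdjoinRoot.root (X ^ p - C (φ a) : A₀[X]))
        (show Polynomial.eval₂ _ _ (X ^ p - C a : A[X]) = 0 by
          have h := AdjoinRoot.eval₂_root (X ^ p - C (φ a) : A₀[X])
          simpa using h)
    have hR := isPushout_rootRing p φ a
    have hρ : Function.Surjective l := by
      intro y
      induction y using AdjoinRoot.induction_on with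
      | ih q =>
        induction q using Polynomial.induction_on' with
        | add q₁ q₂ h₁ h₂ =>
          obtain ⟨x₁, hx₁⟩ := h₁
          obtain ⟨x₂, hx₂⟩ := h₂
          exact ⟨x₁ + x₂, by rw [map_add, hx₁, hx₂, map_add]⟩
        | monomial m b =>
          obtain ⟨x, rfl⟩ := hφ b
          refine ⟨AdjoinRoot.of _ x * AdjoinRoot.root _ ^ m, ?_⟩
          rw [← Polynomial.C_mul_X_pow_eq_monomial, map_mul, map_pow, map_mul, map_pow]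
          simp [l, AdjoinRoot.mk_C, AdjoinRoot.mk_X]
    obtain ⟨B, c, ψ, hP, hT⟩ := exists_lift_tower (n := n) (CommRingCat.ofHom l) hρ c₀ (hi ▸ hn)
    have hc₀ : CommRingCat.ofHom (AdjoinRoot.of (X ^ p - C (φ a) : A₀[X])) ≫ c₀ = f₀ := by
      ext r
      exact (IsScalarTower.algebraMap_apply A₀ (_root_.Quiet.RootRing p A₀ (φ a)) B₀ r).symm
    refine ⟨B, CommRingCat.ofHom (AdjoinRoot.of (X ^ p - C a : A[X])) ≫ c, ψ, hc₀ ▸ hR.paste_horiz hP, ?_⟩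
    letI := (CommRingCat.ofHom (AdjoinRoot.of (X ^ p - C a : A[X])) ≫ c).hom.toAlgebra
    letI := c.hom.toAlgebra
    exact ⟨a, c.hom.toAlgebra, IsScalarTower.of_algebraMap_eq fun _ => rfl, hT⟩

theorem isPthRoot_Spec_map {n : ℕ} {A B : CommRingCat.{u}} (f : A ⟶ B)
    (h : letI := f.hom.toAlgebra; _root_.Quiet.IsRootTower p n A B) : _root_.Quiet.IsPthRoot p (Spec.map f) :=
  fun _ => ⟨⟨⊤, isAffineOpen_top _⟩, trivial, isAffineOpen_top _, n,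
    isRootTower_arrow (Scheme.ΓSpecIso A).symm (Scheme.ΓSpecIso B).symm (Scheme.ΓSpecIso_inv_naturality f) h⟩

theorem exists_quiet_lift {T U U' : Scheme.{u}} (i : U ⟶ T) [IsClosedImmersion i] [Surjective i]
    (f' : U' ⟶ U) (hf' : _root_.Quiet.IsQuiet p f') (u : U') :
    ∃ (V : U'.Opens) (T' : Scheme.{u}) (q : T' ⟶ T) (j : (V : Scheme.{u}) ⟶ T'),
      u ∈ V ∧ _root_.Quiet.IsQuiet p q ∧ IsPullback j (V.ι ≫ f') q i := by
  obtain ⟨V, Y', r, e, hu, hr, he, hre⟩ := hf' u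
  haveI := he
  haveI := Groth.L27.TopInv.isUnivHomeo_respectsIso.{u}
  have huh : FlatMor.IsUnivHomeo i :=
    (Groth.L20.isUnivHomeo_iff i).2 ⟨inferInstance, inferInstance, inferInstance⟩
  obtain ⟨_, ⟨T₁, hT₁, rfl⟩, hT, -⟩ := T.isBasis_affineOpens.exists_subset_of_mem_open
    (Set.mem_univ (i (e (r ⟨u, hu⟩)))) isOpen_univ
  let T₀ : T.Opens := T₁
  have hT₀ : IsAffineOpen T₀ := hT₁
  have hU₀ : IsAffineOpen (i ⁻¹ᵁ T₀) := hT₀.preimage i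
  haveI : IsAffine ((i ⁻¹ᵁ T₀ : U.Opens) : Scheme.{u}) := hU₀
  haveI : IsAffine (T₀ : Scheme.{u}) := hT₀
  obtain ⟨_, ⟨W₁, hW₁, rfl⟩, hyW, hWle⟩ := Y'.isBasis_affineOpens.exists_subset_of_mem_open
    (show r ⟨u, hu⟩ ∈ e ⁻¹ᵁ (i ⁻¹ᵁ T₀) from hT) (e ⁻¹ᵁ (i ⁻¹ᵁ T₀)).2
  let W : Y'.Opens := W₁
  haveI : IsAffine (W : Scheme.{u}) := hW₁
  have hrange : Set.range (W.ι ≫ e) ⊆ Set.range (i ⁻¹ᵁ T₀).ι := by
    rintro _ ⟨w, rfl⟩
    exact ⟨⟨e w.1, hWle w.2⟩, rfl⟩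
  let t := IsOpenImmersion.lift (i ⁻¹ᵁ T₀).ι (W.ι ≫ e) hrange
  have ht : t ≫ (i ⁻¹ᵁ T₀).ι = W.ι ≫ e := IsOpenImmersion.lift_fac _ _ _
  haveI : Etale t := by
    haveI : Etale (t ≫ (i ⁻¹ᵁ T₀).ι) := ht ▸ inferInstance
    exact MorphismProperty.of_postcomp (W := @Etale) (W' := @Etale) t (i ⁻¹ᵁ T₀).ι inferInstance this
  let i' := (i ∣_ T₀) ≫ hT₀.isoSpec.hom
  have hsq : IsPullback i' (i ⁻¹ᵁ T₀).ι (hT₀.isoSpec.inv ≫ T₀.ι) i :=
    (isPullback_morphismRestrict i T₀).of_iso (Iso.refl _) hT₀.isoSpec.symm.symm (Iso.refl _) (Iso.refl _)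
      (by simp [i']) (by simp) (by simp) (by simp)
  haveI hst : (FlatMor.IsUnivHomeo.{u}).IsStableUnderBaseChange :=
    inferInstanceAs (MorphismProperty.universally _).IsStableUnderBaseChange
  have hi' : FlatMor.IsUnivHomeo i' := MorphismProperty.of_isPullback hsq.flip huh
  obtain ⟨U'', v, hv, k, hk⟩ := Groth.L27.TopInv.exists_lift_affine_univHomeo i' hi' t
  haveI := hv
  haveI : IsClosedImmersion i' := inferInstanceAs (IsClosedImmersion ((i ∣_ T₀) ≫ hT₀.isoSpec.hom))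
  haveI : IsClosedImmersion k := MorphismProperty.of_isPullback hk.flip inferInstance
  have hkh : IsHomeomorph k := Groth.L20.isHomeomorph_of_isUnivHomeo (MorphismProperty.of_isPullback hk.flip hi')
  -- an affine chart of `U''` under which `r` is a tower
  obtain ⟨Uc, hyUc, hrUc, n, hn⟩ := hr (r ⟨u, hu⟩)
  obtain ⟨_, ⟨Q₁, hQ₁, rfl⟩, hkyQ, hQle⟩ := U''.isBasis_affineOpens.exists_subset_of_mem_open
    (show k ⟨r ⟨u, hu⟩, hyW⟩ ∈ k '' ((W.ι ⁻¹ᵁ Uc.1 : (W : Scheme.{u}).Opens) : Set _) from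
      ⟨⟨r ⟨u, hu⟩, hyW⟩, hyUc, rfl⟩)
    (hkh.isOpenMap _ (W.ι ⁻¹ᵁ Uc.1).2)
  let Q : U''.Opens := Q₁
  haveI : IsAffine (Q : Scheme.{u}) := hQ₁
  let W₀ : Y'.Opens := W.ι ''ᵁ (k ⁻¹ᵁ Q)
  have hW₀ : IsAffineOpen W₀ := ((hQ₁ : IsAffineOpen Q).preimage k).image_of_isOpenImmersion W.ι
  have hW₀le : W₀ ≤ (𝟙 Y' : Y' ⟶ Y') ⁻¹ᵁ Uc.1 := by
    rintro _ ⟨w, hw, rfl⟩
    obtain ⟨w', hw', hkw⟩ := hQle hw
    exact hkh.bijective.1 hkw ▸ hw'
  obtain ⟨hV₀, hT'⟩ := tower_of_isPullback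
    (IsPullback.of_horiz_isIso ⟨by simp⟩ : IsPullback (𝟙 (V : Scheme.{u})) r r (𝟙 Y')) hrUc hn hW₀ hW₀le
  haveI : IsAffine (W₀ : Scheme.{u}) := hW₀
  haveI : IsAffine ((r ⁻¹ᵁ W₀ : (V : Scheme.{u}).Opens) : Scheme.{u}) := hV₀
  have htw : letI := (r ∣_ W₀).appTop.hom.toAlgebra
      _root_.Quiet.IsRootTower p n Γ((W₀ : Scheme.{u}), ⊤) Γ(((r ⁻¹ᵁ W₀ : (V : Scheme.{u}).Opens) : Scheme.{u}), ⊤) := by
    refine isRootTower_arrow W₀.topIso.symm (r ⁻¹ᵁ W₀).topIso.symm ?_ hT'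
    have h := Arrow.w (arrowResLEAppIso r W₀ (r ⁻¹ᵁ W₀) le_rfl).inv
    rw [← Scheme.Hom.resLE_eq_morphismRestrict, ← Scheme.Hom.appLE_eq_app]
    exact h.symm
  let κ : (W₀ : Scheme.{u}) ⟶ (Q : Scheme.{u}) := (W.ι.isoImage (k ⁻¹ᵁ Q)).inv ≫ (k ∣_ Q)
  have hκ : IsPullback κ (W₀.ι ≫ e) (Q.ι ≫ v ≫ hT₀.isoSpec.inv ≫ T₀.ι) i := by
    refine (((isPullback_morphismRestrict k Q).paste_vert hk).paste_vert hsq).of_iso (W.ι.isoImage (k ⁻¹ᵁ Q))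
      (Iso.refl _) (Iso.refl _) (Iso.refl _) (by simp [κ]) ?_ (by simp) (by simp)
    simp [ht, W₀]
  obtain ⟨B, f, ψ, hP, hB⟩ :=
    exists_lift_tower κ.appTop (IsClosedImmersion.isAffine_surjective_of_isAffine κ).2 (r ∣_ W₀).appTop htw
  let q' : Spec B ⟶ (Q : Scheme.{u}) := Spec.map f ≫ (Q : Scheme.{u}).isoSpec.inv
  let j₀ : ((r ⁻¹ᵁ W₀ : (V : Scheme.{u}).Opens) : Scheme.{u}) ⟶ Spec B :=
    ((r ⁻¹ᵁ W₀ : (V : Scheme.{u}).Opens) : Scheme.{u}).isoSpec.hom ≫ Spec.map ψ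
  have hj : IsPullback j₀ (r ∣_ W₀) q' κ := by
    refine (isPullback_SpecMap_of_isPushout _ _ _ _ hP).of_iso (Scheme.isoSpec _).symm (Iso.refl _)
      (Scheme.isoSpec _).symm (Scheme.isoSpec _).symm (by simp [j₀]) ?_ (by simp [q']) ?_
    · exact Scheme.isoSpec_inv_naturality _
    · exact Scheme.isoSpec_inv_naturality _
  have hall := hj.paste_vert hκ
  refine ⟨V.ι ''ᵁ (r ⁻¹ᵁ W₀), Spec B, q' ≫ Q.ι ≫ v ≫ hT₀.isoSpec.inv ≫ T₀.ι,
    (V.ι.isoImage (r ⁻¹ᵁ W₀)).inv ≫ j₀, ⟨⟨u, hu⟩, ⟨⟨r ⟨u, hu⟩, hyW⟩, hkyQ, rfl⟩, rfl⟩, fun y => ?_, ?_⟩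
  · have hq' : _root_.Quiet.IsPthRoot p q' :=
      isPthRoot_of_isPullback (IsPullback.of_horiz_isIso ⟨by simp [q']⟩ :
        IsPullback (𝟙 _) q' (Spec.map f) (Q : Scheme.{u}).isoSpec.hom) (isPthRoot_Spec_map f hB)
    exact ⟨⊤, Q, (Scheme.topIso (Spec B)).hom ≫ q', Q.ι ≫ v ≫ hT₀.isoSpec.inv ≫ T₀.ι, trivial,
      isPthRoot_of_iso_comp _ hq', inferInstance, by simp⟩
  · refine hall.of_iso (V.ι.isoImage (r ⁻¹ᵁ W₀)) (Iso.refl _) (Iso.refl _) (Iso.refl _) (by simp) ?_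
      (by simp) (by simp)
    rw [Iso.refl_hom, Category.comp_id, morphismRestrict_ι_assoc, hre]
    simp

end Groth.L18.Quiet
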